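import Groth.Agent.Lib.GrpSchField.GrpdField
import Mathlib.AlgebraicGeometry.Morphisms.QuasiFinite
import Mathlib.AlgebraicGeometry.Morphisms.UniversallyOpen
import Mathlib.AlgebraicGeometry.Morphisms.FlatMono
import Mathlib.AlgebraicGeometry.PullbackCarrier
import Mathlib.AlgebraicGeometry.Fiber

/-!
The orbit of a point with finite fibre of the source map: finite, isolated in the fibre over the base.
-/

universe u

open CategoryTheory CategoryTheory.Limits AlgebraicGeometry

namespace GrothLib.GrpdFin13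

/-- A point is isolated in its fibre. -/
def Isolated {X Y : Scheme.{u}} (f : X ⟶ Y) (x : X) : Prop :=
  ∃ V : X.Opens, x ∈ V ∧ ∀ z ∈ V, f z = f x → z = x

theorem Isolated.quasiFiniteAt {X Y : Scheme.{u}} {f : X ⟶ Y} [LocallyOfFiniteType f] {x : X}
    (h : Isolated f x) : f.QuasiFiniteAt x := by
  rw [Scheme.Hom.quasiFiniteAt_iff_isOpen_singleton_asFiber]
  obtain ⟨V, hxV, hV⟩ := h
  have h2 : ({f.asFiber x} : Set (f.fiber (f x))) = (f.fiberι (f x)) ⁻¹' (V : Set X) := by
    ext z
    constructor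
    · rintro rfl
      show f.fiberι (f x) (f.asFiber x) ∈ V
      rwa [Scheme.Hom.asFiber, Scheme.Hom.fiberι_fiberHomeo_symm]
    · intro hz
      apply (f.fiberι (f x)).isEmbedding.injective
      rw [Scheme.Hom.asFiber, Scheme.Hom.fiberι_fiberHomeo_symm]
      exact hV _ hz (Set.mem_preimage.1 ((f.range_fiberι (f x)).le ⟨z, rfl⟩))
  rw [h2]
  exact V.isOpen.preimage (f.fiberι (f x)).continuous

theorem Isolated.of_finite {X Y : Scheme.{u}} {f : X ⟶ Y} [LocallyOfFiniteType f] {x : X}
    (h : (⇑f ⁻¹' {f x}).Finite) : Isolated f x := by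
  haveI : Finite (f.fiber (f x)) := by
    haveI := h.to_subtype
    exact Finite.of_equiv _ (f.fiberHomeo (f x)).symm.toEquiv
  haveI : DiscreteTopology (f.fiber (f x)) := inferInstance
  obtain ⟨W, hW, hW'⟩ := isOpen_induced_iff.mp ((f.fiberι (f x)).isEmbedding.eq_induced ▸
    (isOpen_discrete ({f.asFiber x} : Set (f.fiber (f x)))))
  refine ⟨⟨W, hW⟩, ?_, fun z hz hzx => ?_⟩
  · have : f.asFiber x ∈ f.fiberι (f x) ⁻¹' W := hW'.ge rfl
    rwa [Set.mem_preimage, Scheme.Hom.asFiber, Scheme.Hom.fiberι_fiberHomeo_symm] at this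
  · obtain ⟨w, rfl⟩ : z ∈ Set.range (f.fiberι (f x)) := by
      rw [Scheme.Hom.range_fiberι]; exact hzx
    have : w = f.asFiber x := hW'.le hz
    rw [this, Scheme.Hom.asFiber, Scheme.Hom.fiberι_fiberHomeo_symm]

theorem Isolated.trans {X Y Z : Scheme.{u}} {f : X ⟶ Y} {g : Y ⟶ Z} {x : X} (hf : Isolated f x)
    (hg : Isolated g (f x)) : Isolated (f ≫ g) x := by
  obtain ⟨V, hxV, hV⟩ := hf
  obtain ⟨W, hxW, hW⟩ := hg
  refine ⟨V ⊓ f ⁻¹ᵁ W, ⟨hxV, hxW⟩, fun z hz h => hV z hz.1 (hW (f z) hz.2 ?_)⟩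
  rwa [← Scheme.Hom.comp_apply, ← Scheme.Hom.comp_apply]

theorem Isolated.map {X Y Z : Scheme.{u}} {f : X ⟶ Y} {g : Y ⟶ Z} [Flat f] [LocallyOfFinitePresentation f]
    {x : X} (h : Isolated (f ≫ g) x) : Isolated g (f x) := by
  obtain ⟨V, hxV, hV⟩ := h
  refine ⟨⟨f '' V, f.isOpenMap _ V.isOpen⟩, ⟨x, hxV, rfl⟩, fun y hy h => ?_⟩
  obtain ⟨z, hz, rfl⟩ := hy
  rw [hV z hz (by rw [Scheme.Hom.comp_apply, h, ← Scheme.Hom.comp_apply])]

theorem isolated_congr {X Y : Scheme.{u}} {f g : X ⟶ Y} (e : f = g) {x : X} :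
    Isolated f x ↔ Isolated g x := by rw [e]

variable {S : Scheme.{u}} (G : Grpd.GroupoidScheme S) (u : G.U)

/-- The orbit of `u`. -/
def orbit : Set G.U := G.t '' (G.s ⁻¹' {u})

theorem mem_orbit : u ∈ orbit G u :=
  ⟨G.e u, by rw [Set.mem_preimage, ← Scheme.Hom.comp_apply, G.e_s]; rfl,
    by rw [← Scheme.Hom.comp_apply, G.e_t]; rfl⟩

theorem pU_orbit {x : G.U} (hx : x ∈ orbit G u) : G.pU x = G.pU u := by
  obtain ⟨r, hr, rfl⟩ := hx
  rw [← Scheme.Hom.comp_apply, G.t_over, ← G.s_over, Scheme.Hom.comp_apply, (hr : G.s r = u)]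

variable [LocallyOfFiniteType G.pU] [Flat G.s] [LocallyOfFinitePresentation G.s] [Flat G.t]
  [LocallyOfFinitePresentation G.t]

omit [Flat G.s] in
theorem isolated_orbit (hu : Isolated G.pU u) (hfin : (⇑G.s ⁻¹' {u}).Finite) {x : G.U}
    (hx : x ∈ orbit G u) : Isolated G.pU x := by
  obtain ⟨r, hr, rfl⟩ := hx
  refine Isolated.map (f := G.t) ?_
  rw [isolated_congr (G.t_over.trans G.s_over.symm)]
  exact (Isolated.of_finite (by rw [(hr : G.s r = u)]; exact hfin)).trans
    (by rw [(hr : G.s r = u)]; exact hu)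

set_option backward.isDefEq.respectTransparency.types false in
omit [LocallyOfFiniteType G.pU] [Flat G.t] [LocallyOfFinitePresentation G.t] [Flat G.s] in
theorem finite_pairs (hfin : (⇑G.s ⁻¹' {u}).Finite) :
    {z : ↥(pullback G.s G.s) | G.s (pullback.fst G.s G.s z) = u}.Finite := by
  let ι := G.s.fiberι u
  haveI : Finite (G.s.fiber u) := by
    haveI := hfin.to_subtype
    exact Finite.of_equiv _ (G.s.fiberHomeo u).symm.toEquiv
  let a := ι ≫ G.s
  haveI : QuasiCompact a := ⟨fun U _ _ => (Set.toFinite _).isCompact⟩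
  haveI : QuasiCompact (G.s.fiberToSpecResidueField u) := ⟨fun U _ _ => (Set.toFinite _).isCompact⟩
  haveI : LocallyQuasiFinite (G.s.fiberToSpecResidueField u) :=
    haveI : LocallyOfFiniteType (G.s.fiberToSpecResidueField u) :=
      MorphismProperty.pullback_snd _ _ inferInstance
    LocallyQuasiFinite.of_finite_preimage_singleton _ fun x => Set.toFinite _
  haveI : LocallyQuasiFinite a := by
    have h1 : a = G.s.fiberToSpecResidueField u ≫ G.U.fromSpecResidueField u := pullback.condition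
    rw [h1]
    infer_instance
  let Y := pullback a a
  haveI : Finite Y := by
    have : (Set.univ : Set Y).Finite := by
      rw [← Set.preimage_univ (f := ⇑(pullback.snd a a))]
      exact (pullback.snd a a).finite_preimage Set.finite_univ
    exact Set.finite_univ_iff.mp this
  refine (Set.finite_range (pullback.map a a G.s G.s ι ι (𝟙 _) (Category.comp_id _) (Category.comp_id _))).subset ?_
  intro z hz
  rw [Scheme.Pullback.range_map, Scheme.Hom.range_fiberι]
  refine ⟨hz, ?_⟩
  show G.s (pullback.snd G.s G.s z) = u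
  rw [← Scheme.Hom.comp_apply, ← pullback.condition, Scheme.Hom.comp_apply]
  exact hz

/-- The division map. -/
noncomputable def quo : pullback G.s G.s ⟶ G.R :=
  GrpSchField.cmp G (pullback.fst G.s G.s) (pullback.snd G.s G.s ≫ G.i)
    (by rw [Category.assoc, G.i_t, pullback.condition])

/-- `(α, β) ↦ (α β, β)`. -/
noncomputable def shear : pullback G.s G.t ⟶ pullback G.s G.s :=
  pullback.lift G.c (pullback.snd G.s G.t) (by
    have := G.comp_s (pullback.fst G.s G.t) (pullback.snd G.s G.t) pullback.condition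
    rwa [show pullback.lift (pullback.fst G.s G.t) (pullback.snd G.s G.t) pullback.condition =
      𝟙 _ by apply pullback.hom_ext <;> simp, Category.id_comp] at this)

omit [LocallyOfFiniteType G.pU] [Flat G.s] [LocallyOfFinitePresentation G.s] [Flat G.t]
  [LocallyOfFinitePresentation G.t] in
theorem shear_quo : shear G ≫ quo G = pullback.fst G.s G.t := by
  have hid : pullback.lift (pullback.fst G.s G.t) (pullback.snd G.s G.t) pullback.condition =
      𝟙 _ := by apply pullback.hom_ext <;> simp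
  have hc : GrpSchField.cmp G (pullback.fst G.s G.t) (pullback.snd G.s G.t) pullback.condition = G.c := by
    rw [GrpSchField.cmp, hid, Category.id_comp]
  rw [quo, GrpSchField.comp_cmp]
  refine (GrpSchField.cmp_congr G _ ?_ ?_).trans
    (GrpSchField.cmp_inv_right' G (pullback.snd G.s G.t) (pullback.fst G.s G.t) pullback.condition ?_)
  · rw [shear, pullback.lift_fst, hc]
  · rw [shear, ← Category.assoc, pullback.lift_snd]
  · exact (G.comp_s _ _ _).trans (by rw [Category.assoc, G.i_t])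

omit [LocallyOfFiniteType G.pU] [Flat G.t] [LocallyOfFinitePresentation G.t] in
theorem finite_over_orbit (hfin : (⇑G.s ⁻¹' {u}).Finite) :
    (⇑G.s ⁻¹' orbit G u).Finite ∧ ∀ r, G.s r ∈ orbit G u → G.t r ∈ orbit G u := by
  have key : ∀ r, G.s r ∈ orbit G u → ∃ γ : ↥(pullback G.s G.t), pullback.fst G.s G.t γ = r ∧
      G.s (G.c γ) = u := by
    rintro r ⟨r₀, hr₀, h⟩
    obtain ⟨γ, hγ₁, hγ₂⟩ := Scheme.Pullback.exists_preimage_pullback (f := G.s) (g := G.t) r r₀ h.symm
    refine ⟨γ, hγ₁, ?_⟩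
    have hid : pullback.lift (pullback.fst G.s G.t) (pullback.snd G.s G.t) pullback.condition =
        𝟙 _ := by apply pullback.hom_ext <;> simp
    have hcs := G.comp_s (pullback.fst G.s G.t) (pullback.snd G.s G.t) pullback.condition
    rw [hid, Category.id_comp] at hcs
    rw [← Scheme.Hom.comp_apply, hcs, Scheme.Hom.comp_apply, hγ₂]
    exact hr₀
  refine ⟨((finite_pairs G u hfin).image (quo G)).subset fun r hr => ?_, fun r hr => ?_⟩
  · obtain ⟨γ, hγ, hγu⟩ := key r hr
    refine ⟨shear G γ, ?_, ?_⟩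
    · show G.s (pullback.fst G.s G.s (shear G γ)) = u
      rw [← Scheme.Hom.comp_apply (shear G), shear, pullback.lift_fst]
      exact hγu
    · rw [← Scheme.Hom.comp_apply, shear_quo, hγ]
  · obtain ⟨γ, hγ, hγu⟩ := key r hr
    refine ⟨G.c γ, hγu, ?_⟩
    have hid : pullback.lift (pullback.fst G.s G.t) (pullback.snd G.s G.t) pullback.condition =
        𝟙 _ := by apply pullback.hom_ext <;> simp
    have hct := G.comp_t (pullback.fst G.s G.t) (pullback.snd G.s G.t) pullback.condition
    rw [hid, Category.id_comp] at hct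
    rw [← Scheme.Hom.comp_apply, hct, Scheme.Hom.comp_apply, hγ]

omit [Flat G.t] [LocallyOfFinitePresentation G.t] in
theorem isolated_over_orbit (hfin : (⇑G.s ⁻¹' {u}).Finite)
    (hiso : ∀ x ∈ orbit G u, Isolated G.pU x) {r : G.R} (hr : G.s r ∈ orbit G u) : Isolated G.pR r := by
  rw [← isolated_congr G.s_over]
  exact (Isolated.of_finite ((finite_over_orbit G u hfin).1.subset (by
    intro z hz
    show G.s z ∈ orbit G u
    rw [(hz : G.s z = G.s r)]
    exact hr))).trans (hiso _ hr)

end GrothLib.GrpdFin13
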