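import Groth.Agent.Lib.GrpdFin13.Fibre
import Groth.Agent.Lib.Weight.FiniteParts
import Groth.Prelude.Def_Hens2

/-!
Finite parts of a groupoid over an étale neighbourhood of the base.
-/

universe u

open CategoryTheory CategoryTheory.Limits AlgebraicGeometry

namespace GrothLib.GrpdFin13

section General

variable {X S U : Scheme.{u}} (f : X ⟶ S) (g : U ⟶ S)

theorem isFinite_le {V W : (pullback f g).Opens} (hle : W ≤ V) (hc : IsClosed (W : Set ↥(pullback f g)))
    (h : IsFinite (V.ι ≫ pullback.snd f g)) : IsFinite (W.ι ≫ pullback.snd f g) := by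
  let i := (pullback f g).homOfLE hle
  haveI : IsClosedImmersion i := by
    refine IsClosedImmersion.of_isPreimmersion i ?_
    have : Set.range i = V.ι ⁻¹' (W : Set ↥(pullback f g)) := by
      ext z
      constructor
      · rintro ⟨w, rfl⟩
        show V.ι (i w) ∈ W
        rw [← Scheme.Hom.comp_apply, Scheme.homOfLE_ι]
        exact w.2
      · intro hz
        refine ⟨⟨V.ι z, hz⟩, V.ι.isOpenEmbedding.injective ?_⟩
        exact congrArg (fun k => k.base ⟨V.ι z, hz⟩) (Scheme.homOfLE_ι (pullback f g) hle)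
    rw [this]
    exact hc.preimage V.ι.continuous
  rw [← Scheme.homOfLE_ι _ hle, Category.assoc]
  infer_instance

theorem isClosed_of_isFinite [IsSeparated f] {V : (pullback f g).Opens}
    (h : IsFinite (V.ι ≫ pullback.snd f g)) : IsClosed (V : Set ↥(pullback f g)) := by
  haveI := h
  haveI : IsFinite V.ι := IsFinite.of_comp V.ι (pullback.snd f g)
  rw [← Scheme.Opens.range_ι V]
  exact V.ι.isClosedMap.isClosed_range

theorem isFinite_sup {V W : (pullback f g).Opens} (hV : IsFinite (V.ι ≫ pullback.snd f g))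
    (hW : IsFinite (W.ι ≫ pullback.snd f g))
    (hd : Disjoint (V : Set ↥(pullback f g)) W) : IsFinite ((V ⊔ W).ι ≫ pullback.snd f g) := by
  haveI := hV
  haveI := hW
  let P := pullback f g
  let iV := P.homOfLE (le_sup_left : V ≤ V ⊔ W)
  let iW := P.homOfLE (le_sup_right : W ≤ V ⊔ W)
  have hc : IsCompl iV.opensRange iW.opensRange := by
    rw [Scheme.opensRange_homOfLE, Scheme.opensRange_homOfLE]
    refine ⟨disjoint_iff.2 (TopologicalSpace.Opens.ext ?_), codisjoint_iff.2 (TopologicalSpace.Opens.ext ?_)⟩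
    · ext x
      exact ⟨fun hx => absurd hx.2 (fun h2 => Set.disjoint_left.1 hd hx.1 h2), fun hx => hx.elim⟩
    · ext x
      exact ⟨fun _ => trivial, fun _ => x.2⟩
  let e : ((V : Scheme.{u}) ⨿ (W : Scheme.{u})) ≅ ((V ⊔ W : P.Opens) : Scheme.{u}) :=
    (coprodIsCoprod _ _).coconePointUniqueUpToIso (nonempty_isColimit_binaryCofanMk_of_isCompl iV iW hc).some
  have he : (V ⊔ W).ι ≫ pullback.snd f g =
      e.inv ≫ coprod.desc (V.ι ≫ pullback.snd f g) (W.ι ≫ pullback.snd f g) := by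
    rw [Iso.eq_inv_comp]
    apply coprod.hom_ext
    · have : coprod.inl ≫ e.hom = iV :=
        IsColimit.comp_coconePointUniqueUpToIso_hom (coprodIsCoprod _ _)
          (nonempty_isColimit_binaryCofanMk_of_isCompl iV iW hc).some (⟨WalkingPair.left⟩ : Discrete WalkingPair)
      rw [reassoc_of% this, coprod.inl_desc]
      exact Scheme.homOfLE_ι_assoc _ _ _
    · have : coprod.inr ≫ e.hom = iW :=
        IsColimit.comp_coconePointUniqueUpToIso_hom (coprodIsCoprod _ _)
          (nonempty_isColimit_binaryCofanMk_of_isCompl iV iW hc).some (⟨WalkingPair.right⟩ : Discrete WalkingPair)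
      rw [reassoc_of% this, coprod.inr_desc]
      exact Scheme.homOfLE_ι_assoc _ _ _
  rw [he]
  infer_instance

/-- A clopen part of the base change, finite over the base, with prescribed fibre at a point. -/
structure Part (p' : U) (T : Set X) (W : (pullback f g).Opens) : Prop where
  closed : IsClosed (W : Set ↥(pullback f g))
  finite : IsFinite (W.ι ≫ pullback.snd f g)
  fibre : ∀ z, pullback.snd f g z = p' → (z ∈ W ↔ pullback.fst f g z ∈ T)

theorem exists_part [IsSeparated f] (p' : U) (hg : Function.Bijective (g.residueFieldMap p')) (T : Set X)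
    (hT : T.Finite) (h : ∀ x ∈ T, f x = g p' ∧ Weight.HasFinitePart f g p' x) :
    ∃ W, Part f g p' T W := by
  classical
  induction T, hT using Set.Finite.induction_on with
  | empty =>
    refine ⟨⊥, by simp, ?_, fun z _ => by simp⟩
    haveI : IsEmpty ((⊥ : (pullback f g).Opens) : Scheme.{u}) := ⟨fun x => x.2⟩
    infer_instance
  | @insert a T' _ _ ih =>
    obtain ⟨W, hW⟩ := ih fun x hx => h x (Set.mem_insert_of_mem a hx)
    obtain ⟨hfa, V, v, hvV, hVfin, hvu, hVu, hvx, -⟩ := h a (Set.mem_insert a T')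
    obtain ⟨v₀, -, -, huniq⟩ := Weight.existsUnique_point_over f g p' hg a hfa
    have hVcl := isClosed_of_isFinite f g hVfin
    let V' : (pullback f g).Opens := V ⊓ ⟨(W : Set ↥(pullback f g))ᶜ, hW.closed.isOpen_compl⟩
    have hV'c : IsClosed (V' : Set ↥(pullback f g)) := by
      show IsClosed ((V : Set ↥(pullback f g)) ∩ (W : Set ↥(pullback f g))ᶜ)
      exact hVcl.inter W.isOpen.isClosed_compl
    refine ⟨W ⊔ V', ?_, isFinite_sup f g hW.finite (isFinite_le f g inf_le_left hV'c hVfin) ?_, fun z hz => ?_⟩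
    · show IsClosed ((W : Set ↥(pullback f g)) ∪ (V' : Set ↥(pullback f g)))
      exact hW.closed.union hV'c
    · rw [Set.disjoint_left]
      exact fun z hz hz' => hz'.2 hz
    · show z ∈ W ∨ z ∈ V' ↔ _
      rw [Set.mem_insert_iff, hW.fibre z hz]
      constructor
      · rintro (h1 | h1)
        · exact Or.inr h1
        · rw [hVu z h1.1 hz]
          exact Or.inl hvx
      · rintro (h1 | h1)
        · by_cases hzW : z ∈ W
          · exact Or.inl ((hW.fibre z hz).1 hzW)
          · refine Or.inr ⟨?_, hzW⟩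
            rw [show z = v from (huniq z h1 hz).trans (huniq v hvx hvu).symm]
            exact hvV
        · exact Or.inl h1

theorem Part.baseChange {p' : U} {T : Set X} {W : (pullback f g).Opens} (h : Part f g p' T W)
    {U' : Scheme.{u}} (k : U' ⟶ U) (q : U') (hq : k q = p') :
    Part f (k ≫ g) q T (Weight.towerMap f g k ⁻¹ᵁ W) := by
  refine ⟨h.closed.preimage (Weight.towerMap f g k).continuous, ?_, fun z hz => ?_⟩
  · exact MorphismProperty.of_isPullback
      ((isPullback_morphismRestrict (Weight.towerMap f g k) W).paste_vert (Weight.isPullback_towerMap f g k))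
      h.finite
  · show Weight.towerMap f g k z ∈ W ↔ _
    rw [h.fibre]
    · rw [← Scheme.Hom.comp_apply, Weight.towerMap, pullback.lift_fst]
    · rw [← Scheme.Hom.comp_apply, Weight.towerMap, pullback.lift_snd, Scheme.Hom.comp_apply, hz, hq]

end General

variable {S : Scheme.{u}} (G : Grpd.GroupoidScheme S) {S' : Scheme.{u}} (g : S' ⟶ S)

/-- The base change of the source map. -/
noncomputable abbrev sBC : pullback G.pR g ⟶ pullback G.pU g :=
  pullback.map G.pR g G.pU g G.s (𝟙 S') (𝟙 S) ((Category.comp_id _).trans G.s_over.symm)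
    ((Category.comp_id _).trans (Category.id_comp _).symm)

/-- The base change of the target map. -/
noncomputable abbrev tBC : pullback G.pR g ⟶ pullback G.pU g :=
  pullback.map G.pR g G.pU g G.t (𝟙 S') (𝟙 S) ((Category.comp_id _).trans G.t_over.symm)
    ((Category.comp_id _).trans (Category.id_comp _).symm)

theorem fst_sBC (z : ↥(pullback G.pR g)) :
    pullback.fst G.pU g (sBC G g z) = G.s (pullback.fst G.pR g z) := by
  rw [← Scheme.Hom.comp_apply, pullback.lift_fst, Scheme.Hom.comp_apply]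

theorem snd_sBC (z : ↥(pullback G.pR g)) :
    pullback.snd G.pU g (sBC G g z) = pullback.snd G.pR g z := by
  rw [← Scheme.Hom.comp_apply, pullback.lift_snd, Category.comp_id]

theorem fst_tBC (z : ↥(pullback G.pR g)) :
    pullback.fst G.pU g (tBC G g z) = G.t (pullback.fst G.pR g z) := by
  rw [← Scheme.Hom.comp_apply, pullback.lift_fst, Scheme.Hom.comp_apply]

theorem snd_tBC (z : ↥(pullback G.pR g)) :
    pullback.snd G.pU g (tBC G g z) = pullback.snd G.pR g z := by
  rw [← Scheme.Hom.comp_apply, pullback.lift_snd, Category.comp_id]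

variable (p' : S') (u : G.U)

/-- The finite parts on objects and arrows, compatible with source and target. -/
structure Pair (U' : (pullback G.pU g).Opens) (R' : (pullback G.pR g).Opens) : Prop where
  objs : Part G.pU g p' (orbit G u) U'
  arrows : Part G.pR g p' (⇑G.s ⁻¹' orbit G u) R'
  maps_s : ⇑(sBC G g) '' (R' : Set ↥(pullback G.pR g)) ⊆ U'
  maps_t : ⇑(tBC G g) '' (R' : Set ↥(pullback G.pR g)) ⊆ U'

theorem exists_pair [LocallyOfFiniteType G.pU] [IsSeparated G.pU] [IsSeparated G.pR] [Flat G.s]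
    [LocallyOfFinitePresentation G.s] [Flat G.t] [LocallyOfFinitePresentation G.t]
    (hu : Isolated G.pU u) (hfin : (⇑G.s ⁻¹' {u}).Finite) :
    ∃ (S' : Scheme.{u}) (g : S' ⟶ S) (p' : S') (_ : Hens2.IsEtaleNbhd g p' (G.pU u))
      (U' : (pullback G.pU g).Opens) (R' : (pullback G.pR g).Opens), Pair G g p' u U' R' := by
  classical
  haveI : LocallyOfFiniteType G.pR := by rw [← G.s_over]; infer_instance
  have hO : (orbit G u).Finite := hfin.image _
  obtain ⟨hR, hclosed⟩ := finite_over_orbit G u hfin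
  have hisoO : ∀ x ∈ orbit G u, Isolated G.pU x := fun x hx => isolated_orbit G u hu hfin hx
  have hpR : ∀ r, G.s r ∈ orbit G u → G.pR r = G.pU u := fun r hr => by
    rw [← G.s_over, Scheme.Hom.comp_apply, pU_orbit G u hr]
  obtain ⟨U₁, g₁, u₁, ⟨he₁, hgu₁, hb₁⟩, h₁⟩ := Weight.exists_finite_parts (f := G.pU) (G.pU u)
    (fun x : orbit G u => (x : G.U)) (fun x => pU_orbit G u x.2)
    (fun x => (hisoO _ x.2).quasiFiniteAt) (haveI := hO.fintype; Finset.univ)
  obtain ⟨U₂, g₂, u₂, ⟨he₂, hgu₂, hb₂⟩, h₂⟩ := Weight.exists_finite_parts (f := G.pR) (G.pU u)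
    (fun r : (⇑G.s ⁻¹' orbit G u) => (r : G.R)) (fun r => hpR _ r.2)
    (fun r => (isolated_over_orbit G u hfin hisoO r.2).quasiFiniteAt) (haveI := hR.fintype; Finset.univ)
  obtain ⟨w, ⟨hw₁, hw₂⟩, hwb, -⟩ :=
    Weight.existsUnique_point_over g₁ g₂ u₂ hb₂ u₁ (hgu₁.trans hgu₂.symm)
  let g := pullback.fst g₁ g₂ ≫ g₁
  have hb : Function.Bijective (g.residueFieldMap w) :=
    Weight.residueFieldMap_bijective_of_comp _ _ _ hwb (hw₁.symm ▸ hb₁)
  haveI := he₁
  haveI := he₂
  have hgw : g w = G.pU u := by rw [Scheme.Hom.comp_apply, hw₁, hgu₁]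
  obtain ⟨U', hU'⟩ := exists_part G.pU g w hb (orbit G u) hO fun x hx =>
    ⟨(pU_orbit G u hx).trans hgw.symm, (h₁ ⟨x, hx⟩ (by simp)).of_comp hb₁ _ w hw₁ hb⟩
  obtain ⟨R₀, hR₀⟩ := exists_part G.pR g w hb _ hR fun r hr =>
    ⟨(hpR r hr).trans hgw.symm, by
      have := (h₂ ⟨r, hr⟩ (by simp)).of_comp hb₂ (pullback.snd g₁ g₂) w hw₂
        (pullback.condition (f := g₁) (g := g₂) ▸ hb)
      rwa [← pullback.condition] at this⟩
  refine ⟨_, g, w, ⟨inferInstance, hgw, hb⟩, U', R₀ ⊓ sBC G g ⁻¹ᵁ U' ⊓ tBC G g ⁻¹ᵁ U', hU', ⟨?_, ?_, ?_⟩,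
    ?_, ?_⟩
  · exact (hR₀.closed.inter (hU'.closed.preimage (sBC G g).continuous)).inter
      (hU'.closed.preimage (tBC G g).continuous)
  · exact isFinite_le G.pR g (inf_le_left.trans inf_le_left)
      ((hR₀.closed.inter (hU'.closed.preimage (sBC G g).continuous)).inter
      (hU'.closed.preimage (tBC G g).continuous)) hR₀.finite
  · intro z hz
    show (z ∈ R₀ ∧ sBC G g z ∈ U') ∧ tBC G g z ∈ U' ↔ _
    rw [hR₀.fibre z hz, hU'.fibre _ ((snd_sBC G g z).trans hz), hU'.fibre _ ((snd_tBC G g z).trans hz),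
      fst_sBC, fst_tBC]
    exact ⟨fun h => h.1.1, fun h => ⟨⟨h, h⟩, hclosed _ h⟩⟩
  · rintro _ ⟨z, hz, rfl⟩
    exact hz.1.2
  · rintro _ ⟨z, hz, rfl⟩
    exact hz.2

variable {G g p' u}

theorem exists_point (hg : Hens2.IsEtaleNbhd g p' (G.pU u)) :
    ∃ u' : ↥(pullback G.pU g), pullback.fst G.pU g u' = u ∧ pullback.snd G.pU g u' = p' := by
  obtain ⟨v, hv, -, -⟩ := Weight.existsUnique_point_over G.pU g p' hg.residue_bijective u hg.base_eq.symm
  exact ⟨v, hv⟩

theorem Pair.fibre_eq {U' : (pullback G.pU g).Opens} {R' : (pullback G.pR g).Opens}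
    (h : Pair G g p' u U' R') (hg : Hens2.IsEtaleNbhd g p' (G.pU u)) (u' : ↥(pullback G.pU g))
    (hu₁ : pullback.fst G.pU g u' = u) (hu₂ : pullback.snd G.pU g u' = p') :
    {x : ↥(pullback G.pU g) | x ∈ U' ∧ pullback.snd G.pU g x = p'} =
      ⇑(tBC G g) '' (⇑(sBC G g) ⁻¹' {u'}) := by
  have hgb := hg.residue_bijective
  ext x
  constructor
  · rintro ⟨hx, hxp⟩
    obtain ⟨r, hr, hrx⟩ := (h.objs.fibre x hxp).1 hx
    obtain ⟨z, ⟨hz₁, hz₂⟩, -, -⟩ := Weight.existsUnique_point_over G.pR g p' hgb r (by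
      rw [← G.s_over, Scheme.Hom.comp_apply, (hr : G.s r = u), hg.base_eq])
    obtain ⟨v, -, -, huniq⟩ := Weight.existsUnique_point_over G.pU g p' hgb u hg.base_eq.symm
    obtain ⟨v', -, -, huniq'⟩ := Weight.existsUnique_point_over G.pU g p' hgb (pullback.fst G.pU g x) (by
      rw [← Scheme.Hom.comp_apply, pullback.condition, Scheme.Hom.comp_apply, hxp])
    refine ⟨z, ?_, ?_⟩
    · show sBC G g z = u'
      exact (huniq _ (by rw [fst_sBC, hz₁]; exact hr) (by rw [snd_sBC, hz₂])).trans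
        (huniq _ hu₁ hu₂).symm
    · exact (huniq' _ (by rw [fst_tBC, hz₁, hrx]) (by rw [snd_tBC, hz₂])).trans
        (huniq' _ rfl hxp).symm
  · rintro ⟨z, hz, rfl⟩
    have hzp : pullback.snd G.pR g z = p' := by rw [← snd_sBC, (hz : sBC G g z = u'), hu₂]
    refine ⟨(h.objs.fibre _ ((snd_tBC G g z).trans hzp)).2 ?_, (snd_tBC G g z).trans hzp⟩
    rw [fst_tBC]
    exact ⟨_, by show G.s _ = u; rw [← fst_sBC, (hz : sBC G g z = u'), hu₁], rfl⟩

theorem Pair.fibre_arrows {U' : (pullback G.pU g).Opens} {R' : (pullback G.pR g).Opens}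
    (h : Pair G g p' u U' R') :
    {r : ↥(pullback G.pR g) | r ∈ R' ∧ pullback.snd G.pR g r = p'} =
      ⇑(sBC G g) ⁻¹' {x | x ∈ U' ∧ pullback.snd G.pU g x = p'} := by
  ext z
  simp only [Set.mem_setOf_eq, Set.mem_preimage, snd_sBC]
  constructor
  · rintro ⟨hz, hzp⟩
    exact ⟨h.maps_s ⟨z, hz, rfl⟩, hzp⟩
  · rintro ⟨hz, hzp⟩
    refine ⟨(h.arrows.fibre z hzp).2 ?_, hzp⟩
    have := (h.objs.fibre _ ((snd_sBC G g z).trans hzp)).1 hz
    rwa [fst_sBC] at this

theorem Pair.exists_full [UniversallyClosed G.j] [IsSeparated G.pU] {U' : (pullback G.pU g).Opens}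
    {R' : (pullback G.pR g).Opens} (h : Pair G g p' u U' R')
    (hg : Hens2.IsEtaleNbhd g p' (G.pU u)) :
    ∃ (S'' : Scheme.{u}) (g' : S'' ⟶ S) (q : S'') (_ : Hens2.IsEtaleNbhd g' q (G.pU u))
      (U'' : (pullback G.pU g').Opens) (R'' : (pullback G.pR g').Opens),
      Pair G g' q u U'' R'' ∧ (R'' : Set ↥(pullback G.pR g')) =
        ⇑(sBC G g') ⁻¹' (U'' : Set ↥(pullback G.pU g')) ∩ ⇑(tBC G g') ⁻¹' (U'' : Set ↥(pullback G.pU g')) := by
  let RR : (pullback G.pR g).Opens := sBC G g ⁻¹ᵁ U' ⊓ tBC G g ⁻¹ᵁ U'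
  let bad : Set ↥(pullback G.pR g) := (RR : Set ↥(pullback G.pR g)) ∩ (R' : Set ↥(pullback G.pR g))ᶜ
  have hbad : IsClosed bad :=
    ((h.objs.closed.preimage (sBC G g).continuous).inter (h.objs.closed.preimage (tBC G g).continuous)).inter
      R'.isOpen.isClosed_compl
  -- the pair map is a base change of `j`
  let aU := pullback.snd G.pU g
  let P := pullback aU aU
  let m : P ⟶ pullback G.pU G.pU :=
    pullback.map _ _ _ _ (pullback.fst G.pU g) (pullback.fst G.pU g) g
      pullback.condition.symm pullback.condition.symm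
  have h1 : IsPullback (pullback.snd aU aU ≫ pullback.fst G.pU g) (pullback.fst aU aU) G.pU (aU ≫ g) :=
    (IsPullback.of_hasPullback aU aU).flip.paste_horiz (IsPullback.of_hasPullback G.pU g)
  have h2 : IsPullback m (pullback.fst aU aU) (pullback.fst G.pU G.pU) (pullback.fst G.pU g) := by
    refine IsPullback.of_right ?_ (pullback.lift_fst _ _ _) (IsPullback.of_hasPullback G.pU G.pU).flip
    rw [pullback.lift_snd, pullback.condition]
    exact h1
  have h3 : IsPullback m (pullback.fst aU aU ≫ aU) (pullback.fst G.pU G.pU ≫ G.pU) g :=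
    h2.paste_vert (IsPullback.of_hasPullback G.pU g)
  let dgl : pullback G.pR g ⟶ P :=
    pullback.lift (tBC G g) (sBC G g) (by rw [pullback.lift_snd, pullback.lift_snd])
  have hj : G.j ≫ pullback.fst G.pU G.pU ≫ G.pU = G.pR := by
    rw [← Category.assoc, Grpd.GroupoidScheme.j, pullback.lift_fst, G.t_over]
  have hd : dgl ≫ pullback.fst aU aU ≫ aU = pullback.snd G.pR g := by
    rw [pullback.lift_fst_assoc, pullback.lift_snd, Category.comp_id]
  have h4 : IsPullback (pullback.fst G.pR g) dgl G.j m := by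
    refine IsPullback.of_bot ?_ ?_ h3
    · rw [hj, hd]
      exact IsPullback.of_hasPullback G.pR g
    · apply pullback.hom_ext
      · rw [Category.assoc, Category.assoc, Grpd.GroupoidScheme.j, pullback.lift_fst, pullback.lift_fst,
          pullback.lift_fst_assoc, pullback.lift_fst]
      · rw [Category.assoc, Category.assoc, Grpd.GroupoidScheme.j, pullback.lift_snd, pullback.lift_snd,
          pullback.lift_snd_assoc, pullback.lift_fst]
  haveI : UniversallyClosed dgl := MorphismProperty.of_isPullback h4 inferInstance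
  -- its image in the base is closed
  have closed_image : ∀ {X Y : Scheme.{u}} (W : X.Opens) (φ : X ⟶ Y) (C : Set X), IsFinite (W.ι ≫ φ) →
      IsClosed C → C ⊆ W → IsClosed (φ '' C) := fun W φ C hW hC hCW => by
    haveI := hW
    have : φ '' C = (W.ι ≫ φ) '' (W.ι ⁻¹' C) := by
      ext y
      constructor
      · rintro ⟨x, hx, rfl⟩
        exact ⟨⟨x, hCW hx⟩, hx, rfl⟩
      · rintro ⟨x, hx, rfl⟩
        exact ⟨W.ι x, hx, rfl⟩
    rw [this]
    exact (W.ι ≫ φ).isClosedMap _ (hC.preimage W.ι.continuous)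
  have hWfin : IsFinite ((pullback.snd aU aU ⁻¹ᵁ U').ι ≫ pullback.fst aU aU) :=
    MorphismProperty.of_isPullback
      ((isPullback_morphismRestrict (pullback.snd aU aU) U').paste_vert
        (IsPullback.of_hasPullback aU aU).flip) h.objs.finite
  have hC1 : IsClosed (dgl '' bad) := dgl.isClosedMap _ hbad
  have hC2 : IsClosed (pullback.fst aU aU '' (dgl '' bad)) := closed_image _ _ _ hWfin hC1 (by
    rintro _ ⟨z, hz, rfl⟩
    show pullback.snd aU aU (dgl z) ∈ U'
    rw [← Scheme.Hom.comp_apply, pullback.lift_snd]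
    exact hz.1.1)
  have hC3 : IsClosed (pullback.snd G.pR g '' bad) := by
    have : pullback.snd G.pR g '' bad = aU '' (pullback.fst aU aU '' (dgl '' bad)) := by
      rw [Set.image_image, Set.image_image]
      refine Set.image_congr fun z _ => ?_
      show _ = aU (pullback.fst aU aU (dgl z))
      rw [← hd]
      rfl
    rw [this]
    refine closed_image _ _ _ h.objs.finite hC2 ?_
    rintro _ ⟨_, ⟨z, hz, rfl⟩, rfl⟩
    rw [← Scheme.Hom.comp_apply, pullback.lift_fst]
    exact hz.1.2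
  let O : S'.Opens := ⟨(pullback.snd G.pR g '' bad)ᶜ, hC3.isOpen_compl⟩
  have hpO : p' ∈ O := by
    rintro ⟨z, hz, hzp⟩
    refine hz.2 ((h.arrows.fibre z hzp).2 ?_)
    have := (h.objs.fibre _ ((snd_sBC G g z).trans hzp)).1 hz.1.1
    rwa [fst_sBC] at this
  haveI := hg.etale
  have hiso : ∀ x : ↥(O : Scheme.{u}), IsIso (O.ι.residueFieldMap x) := fun x => inferInstance
  refine ⟨_, O.ι ≫ g, ⟨p', hpO⟩, ⟨inferInstance, hg.base_eq,
    Weight.residueFieldMap_bijective_of_comp _ _ _
      ((ConcreteCategory.isIso_iff_bijective _).mp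
        (hiso ⟨p', hpO⟩))
      hg.residue_bijective⟩, ?_⟩
  let TU := Weight.towerMap G.pU g O.ι
  let TR := Weight.towerMap G.pR g O.ι
  have hTs : sBC G (O.ι ≫ g) ≫ TU = TR ≫ sBC G g := by
    apply pullback.hom_ext
    · simp only [TU, TR, Weight.towerMap, Category.assoc, pullback.lift_fst, pullback.lift_fst_assoc]
    · simp only [TU, TR, Weight.towerMap, Category.assoc, pullback.lift_snd, pullback.lift_snd_assoc, Category.comp_id]
  have hTt : tBC G (O.ι ≫ g) ≫ TU = TR ≫ tBC G g := by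
    apply pullback.hom_ext
    · simp only [TU, TR, Weight.towerMap, Category.assoc, pullback.lift_fst, pullback.lift_fst_assoc]
    · simp only [TU, TR, Weight.towerMap, Category.assoc, pullback.lift_snd, pullback.lift_snd_assoc, Category.comp_id]
  refine ⟨TU ⁻¹ᵁ U', TR ⁻¹ᵁ R', ⟨h.objs.baseChange _ _ O.ι _ rfl, h.arrows.baseChange _ _ O.ι _ rfl, ?_, ?_⟩, ?_⟩
  · rintro _ ⟨z, hz, rfl⟩
    show TU (sBC G (O.ι ≫ g) z) ∈ U'
    rw [← Scheme.Hom.comp_apply, hTs, Scheme.Hom.comp_apply]
    exact h.maps_s ⟨_, hz, rfl⟩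
  · rintro _ ⟨z, hz, rfl⟩
    show TU (tBC G (O.ι ≫ g) z) ∈ U'
    rw [← Scheme.Hom.comp_apply, hTt, Scheme.Hom.comp_apply]
    exact h.maps_t ⟨_, hz, rfl⟩
  · ext z
    show TR z ∈ R' ↔ TU (sBC G (O.ι ≫ g) z) ∈ U' ∧ TU (tBC G (O.ι ≫ g) z) ∈ U'
    rw [← Scheme.Hom.comp_apply, hTs, Scheme.Hom.comp_apply,
      ← Scheme.Hom.comp_apply (tBC G (O.ι ≫ g)), hTt, Scheme.Hom.comp_apply]
    refine ⟨fun hz => ⟨h.maps_s ⟨_, hz, rfl⟩, h.maps_t ⟨_, hz, rfl⟩⟩, fun hz => ?_⟩
    by_contra hzR
    have hbz : pullback.snd G.pR g (TR z) ∈ O := by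
      have hT : TR ≫ pullback.snd G.pR g = pullback.snd G.pR (O.ι ≫ g) ≫ O.ι := pullback.lift_snd _ _ _
      rw [← Scheme.Hom.comp_apply, hT, Scheme.Hom.comp_apply]
      exact (pullback.snd G.pR (O.ι ≫ g) z).2
    exact hbz ⟨TR z, ⟨hz, hzR⟩, rfl⟩

end GrothLib.GrpdFin13
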